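import Groth.Prelude.Def_Omega3
import Groth.Prelude.Def_Frob
import Mathlib

/-!
# Differentials kill the sections of the Frobenius twist
-/

set_option autoImplicit false
set_option linter.style.haveILetI false
set_option backward.isDefEq.respectTransparency false
set_option backward.isDefEq.respectTransparency.types false
set_option maxHeartbeats 800000

universe u

open CategoryTheory Limits AlgebraicGeometry Opposite TopologicalSpace

namespace Groth.Agent.DiffFrob

section Der

variable {X S : Scheme.{u}} {f : X ⟶ S} {Ω : X.Modules} (d : OmegaSh.Der f Ω)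

theorem app_mul (U : X.Opens) (a b : Γ(X, U)) :
    d.app U (a * b) = a • d.app U b + b • d.app U a := d.d_mul (X := op U) a b

theorem app_map {U U' : X.Opens} (h : U' ≤ U) (a : Γ(X, U)) :
    d.app U' (X.presheaf.map (homOfLE h).op a) = Ω.presheaf.map (homOfLE h).op (d.app U a) :=
  d.d_map (X := op U) (Y := op U') (homOfLE h).op a

theorem app_app (V : S.Opens) (c : Γ(S, V)) : d.app (f ⁻¹ᵁ V) (f.app V c) = 0 :=
  d.d_app (X := op V) c

theorem app_appLE {V : S.Opens} {U : X.Opens} (h : U ≤ f ⁻¹ᵁ V) (c : Γ(S, V)) :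
    d.app U (f.appLE V U h c) = 0 := by
  show d.app U (X.presheaf.map (homOfLE h).op (f.app V c)) = 0
  rw [app_map d h, app_app, map_zero]

theorem app_one (U : X.Opens) : d.app U (1 : Γ(X, U)) = 0 := by
  have h := app_mul d U 1 1
  rw [mul_one, one_smul] at h
  exact left_eq_add.mp h

theorem app_pow (U : X.Opens) (a : Γ(X, U)) : ∀ n : ℕ,
    d.app U (a ^ (n + 1)) = ((n + 1 : ℕ) : Γ(X, U)) • (a ^ n • d.app U a)
  | 0 => by simp
  | n + 1 => by
    rw [pow_succ a (n + 1), app_mul d, app_pow U a n, smul_comm a (((n + 1 : ℕ)) : Γ(X, U)) (a ^ n • d.app U a),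
      smul_smul a (a ^ n), ← pow_succ', Nat.cast_succ (n + 1), add_smul, one_smul, add_comm]

theorem app_pow_char (p : ℕ) (hp : 0 < p) (U : X.Opens) (h0 : ((p : ℕ) : Γ(X, U)) = 0) (a : Γ(X, U)) :
    d.app U (a ^ p) = 0 := by
  obtain ⟨n, rfl⟩ : ∃ n, p = n + 1 := ⟨p - 1, by omega⟩
  rw [app_pow, h0, zero_smul]

/-- The kernel of a derivation on sections, as a subring. -/
def derKer (U : X.Opens) : Subring Γ(X, U) where
  carrier := {a | d.app U a = 0}
  mul_mem' {a b} ha hb := by
    show d.app U (a * b) = 0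
    rw [app_mul d, show d.app U a = 0 from ha, show d.app U b = 0 from hb, smul_zero, smul_zero, add_zero]
  one_mem' := app_one d U
  add_mem' {a b} ha hb := by
    show d.app U (a + b) = 0
    rw [map_add, show d.app U a = 0 from ha, show d.app U b = 0 from hb, add_zero]
  zero_mem' := map_zero (d.app U)
  neg_mem' {a} ha := by
    show d.app U (-a) = 0
    rw [map_neg, show d.app U a = 0 from ha, neg_zero]

/-- A derivation killing `g` and `c * g ^ n`, `g` a unit, kills `c`. -/
theorem app_eq_zero_of_unit (U : X.Opens) {g c : Γ(X, U)} (hg : IsUnit g)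
    (h : d.app U (c * g) = 0) (hg0 : d.app U g = 0) : d.app U c = 0 := by
  rw [app_mul d, hg0, smul_zero, zero_add] at h
  obtain ⟨v, rfl⟩ := hg
  have h' := congrArg ((↑v⁻¹ : Γ(X, U)) • ·) h
  simpa only [smul_zero, smul_smul, Units.inv_mul, one_smul] using h'

end Der

variable (p : ℕ) [Fact p.Prime] {X S : Scheme.{u}} [FrobSch.IsCharP S p] (f : X ⟶ S)

/-- A derivation over `S` kills every section coming from the Frobenius twist. -/
theorem app_relFrob {Ω : X.Modules} (d : OmegaSh.Der f Ω) (V : (FrobSch.frobTwist f p).Opens)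
    (c : Γ(FrobSch.frobTwist f p, V)) :
    d.app (FrobSch.relFrob f p ⁻¹ᵁ V) ((FrobSch.relFrob f p).app V c) = 0 := by
  haveI : FrobSch.IsCharP X p := FrobSch.IsCharP.of_hom f p
  let F := FrobSch.relFrob f p
  have hloc : ∀ x ∈ F ⁻¹ᵁ V, ∃ O : X.Opens, x ∈ O ∧ ∃ hO : O ≤ F ⁻¹ᵁ V, d.app O (F.appLE V O hO c) = 0 := by
    intro x hx
    obtain ⟨V₀, hV₀, hxV₀, -⟩ := exists_isAffineOpen_mem_and_subset (U := (⊤ : S.Opens)) (x := f x) trivial
    obtain ⟨U₀, hU₀, hxU₀, hU₀le⟩ := exists_isAffineOpen_mem_and_subset (U := f ⁻¹ᵁ V₀) (x := x) hxV₀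
    let fst := pullback.fst f (FrobSch.frob S p)
    let snd := pullback.snd f (FrobSch.frob S p)
    let W : (FrobSch.frobTwist f p).Opens := fst ⁻¹ᵁ U₀ ⊓ snd ⁻¹ᵁ V₀
    have hW : IsAffineOpen W := by
      haveI : IsAffine (U₀ : Scheme) := hU₀
      haveI : IsAffine (V₀ : Scheme) := hV₀
      exact .of_isIso (Scheme.Hom.isPullback_resLE (IsPullback.of_hasPullback f (FrobSch.frob S p)) (US := V₀)
        (UT := V₀) (UX := U₀) le_rfl hU₀le (UY := W) rfl).isoPullback.hom
    have hp : IsPushout (f.appLE V₀ U₀ hU₀le) ((FrobSch.frob S p).appLE V₀ V₀ le_rfl)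
        (fst.appLE U₀ W inf_le_left) (snd.appLE V₀ W inf_le_right) :=
      (isIso_pushoutSection_iff (IsPullback.of_hasPullback f (FrobSch.frob S p)) le_rfl hU₀le rfl).1
        (isIso_pushoutSection_of_isAffineOpen _ _ _ _ hV₀ hV₀ hU₀)
    have hxW : F x ∈ W := by
      constructor
      · show fst (F x) ∈ U₀
        rw [← Scheme.Hom.comp_apply, show F ≫ fst = FrobSch.frob X p from FrobSch.relFrob_fst f p,
          FrobSch.frob_apply]
        exact hxU₀
      · show snd (F x) ∈ V₀
        rw [← Scheme.Hom.comp_apply, show F ≫ snd = f from FrobSch.relFrob_snd f p]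
        exact hxV₀
    obtain ⟨g, hgV, hxg⟩ := hW.exists_basicOpen_le ⟨F x, hx⟩ hxW
    let Wg := (FrobSch.frobTwist f p).basicOpen g
    let O : X.Opens := F ⁻¹ᵁ Wg ⊓ U₀
    have hOW : O ≤ F ⁻¹ᵁ W := fun y hy => (FrobSch.frobTwist f p).basicOpen_le g hy.1
    -- every section over `W` is killed
    have hgen : ∀ a : Γ(FrobSch.frobTwist f p, W), d.app O (F.appLE W O hOW a) = 0 := by
      let T := (derKer d O).comap (F.appLE W O hOW).hom
      have h1 : ∀ a, fst.appLE U₀ W inf_le_left a ∈ T := fun a => by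
        show d.app O (F.appLE W O hOW (fst.appLE U₀ W inf_le_left a)) = 0
        rw [← CategoryTheory.comp_apply, Scheme.Hom.appLE_comp_appLE]
        simp only [F, fst, FrobSch.relFrob_fst]
        show d.app O (X.presheaf.map (homOfLE _).op (a ^ p)) = 0
        rw [map_pow]
        exact app_pow_char d p (Fact.out : p.Prime).pos O (FrobSch.natCast_eq_zero_app X p O) _
      have h2 : ∀ b, snd.appLE V₀ W inf_le_right b ∈ T := fun b => by
        show d.app O (F.appLE W O hOW (snd.appLE V₀ W inf_le_right b)) = 0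
        rw [← CategoryTheory.comp_apply, Scheme.Hom.appLE_comp_appLE]
        simp only [F, snd, FrobSch.relFrob_snd]
        exact app_appLE d _ b
      let l : Γ(X, U₀) ⟶ CommRingCat.of T := CommRingCat.ofHom ((fst.appLE U₀ W inf_le_left).hom.codRestrict T h1)
      let r : Γ(S, V₀) ⟶ CommRingCat.of T := CommRingCat.ofHom ((snd.appLE V₀ W inf_le_right).hom.codRestrict T h2)
      have hw : f.appLE V₀ U₀ hU₀le ≫ l = (FrobSch.frob S p).appLE V₀ V₀ le_rfl ≫ r := by
        ext z
        exact congr($(hp.w).hom z)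
      have hid : hp.desc l r hw ≫ CommRingCat.ofHom T.subtype = 𝟙 _ := by
        refine hp.hom_ext ?_ ?_
        · rw [IsPushout.inl_desc_assoc, Category.comp_id]; rfl
        · rw [IsPushout.inr_desc_assoc, Category.comp_id]; rfl
      intro a
      have h3 : ((hp.desc l r hw).hom a : Γ(FrobSch.frobTwist f p, W)) = a := congr($(hid).hom a)
      exact (h3 ▸ ((hp.desc l r hw).hom a).2 : a ∈ T)
    refine ⟨O, ⟨hxg, hxU₀⟩, fun y hy => hgV hy.1, ?_⟩
    haveI := hW.isLocalization_basicOpen g
    obtain ⟨⟨a, ⟨_, n, rfl⟩⟩, ha⟩ := IsLocalization.surj (Submonoid.powers g)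
      ((FrobSch.frobTwist f p).presheaf.map (homOfLE hgV).op c)
    have ha' := congrArg (F.appLE Wg O inf_le_left) ha
    have hres : ∀ z : Γ(FrobSch.frobTwist f p, W),
        F.appLE Wg O inf_le_left (algebraMap _ Γ(FrobSch.frobTwist f p, Wg) z) = F.appLE W O hOW z := fun z => by
      show (((FrobSch.frobTwist f p).presheaf.map (homOfLE ((FrobSch.frobTwist f p).basicOpen_le g)).op) ≫
        F.appLE Wg O inf_le_left) z = _
      rw [Scheme.Hom.map_appLE]
    have hcmap : F.appLE Wg O inf_le_left ((FrobSch.frobTwist f p).presheaf.map (homOfLE hgV).op c) =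
        F.appLE V O (fun y hy => hgV hy.1) c := by
      rw [← CategoryTheory.comp_apply, Scheme.Hom.map_appLE]
    rw [map_mul, hres, hres, hcmap] at ha'
    refine app_eq_zero_of_unit d O ?_ (ha'.symm ▸ hgen a) (hgen (g ^ n))
    rw [← hres]
    exact (IsLocalization.map_units Γ(FrobSch.frobTwist f p, Wg)
      (⟨g ^ n, n, rfl⟩ : Submonoid.powers g)).map _
  choose O hxO hO hzero using hloc
  refine TopCat.Sheaf.eq_of_locally_eq' (⟨Ω.presheaf, Ω.isSheaf⟩ : TopCat.Sheaf Ab X)
    (fun x : (F ⁻¹ᵁ V : X.Opens) => O x.1 x.2) (F ⁻¹ᵁ V) (fun x => homOfLE (hO x.1 x.2))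
    (fun y hy => Opens.mem_iSup.2 ⟨⟨y, hy⟩, hxO y hy⟩) _ _ fun x => ?_
  refine (app_map d (hO x.1 x.2) _).symm.trans ((hzero x.1 x.2).trans (map_zero _).symm)

/-- The derivation relative to the relative Frobenius with the same values. -/
noncomputable def toRelFrob {Ω : X.Modules} (d : OmegaSh.Der f Ω) : OmegaSh.Der (FrobSch.relFrob f p) Ω where
  d := d.d
  d_mul := d.d_mul
  d_map := d.d_map
  d_app {V} c := app_relFrob p f d V.unop c

/-- A derivation relative to the relative Frobenius is a derivation over the base. -/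
noncomputable def ofRelFrob {Ω : X.Modules} (d : OmegaSh.Der (FrobSch.relFrob f p) Ω) : OmegaSh.Der f Ω where
  d := d.d
  d_mul := d.d_mul
  d_map := d.d_map
  d_app {V} c := by
    have hle : f ⁻¹ᵁ V.unop ≤ FrobSch.relFrob f p ⁻¹ᵁ (pullback.snd f (FrobSch.frob S p) ⁻¹ᵁ V.unop) := by
      rw [← Scheme.Hom.comp_preimage, FrobSch.relFrob_snd]
    have h := app_appLE d hle ((pullback.snd f (FrobSch.frob S p)).app V.unop c)
    rw [← CategoryTheory.comp_apply, Scheme.Hom.app_eq_appLE, Scheme.Hom.appLE_comp_appLE] at h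
    simp only [FrobSch.relFrob_snd] at h
    rw [← Scheme.Hom.app_eq_appLE] at h
    exact h

/-- The differentials over `S` are the differentials over the Frobenius twist. -/
theorem main {Ω : X.Modules} (d : OmegaSh.Der f Ω) (hd : OmegaSh.IsUniversal d) :
    ∃ d' : OmegaSh.Der (FrobSch.relFrob f p) Ω,
      (∀ (U : X.Opens) (s : Γ(X, U)), d'.app U s = d.app U s) ∧ OmegaSh.IsUniversal d' := by
  refine ⟨toRelFrob p f d, fun U s => rfl, fun F D => ?_⟩
  obtain ⟨α, hα, huniq⟩ := hd F (ofRelFrob p f D)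
  refine ⟨α, ?_, fun β hβ => huniq β ?_⟩
  · ext U s
    exact PresheafOfModules.Derivation.congr_d hα s
  · ext U s
    exact PresheafOfModules.Derivation.congr_d hβ s

end Groth.Agent.DiffFrob
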